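import Groth.Agent.CommDecompLib.Split
import Groth.Agent.GrpSchLib.SubHopf
import Groth.Agent.GrpSchLib.HopfGalois
import Groth.Agent.GrpSchLib.SimpleFinite
import Groth.Agent.ExtMultLib.Descent
import Groth.Agent.TakeuchiLib.Kernels
import Groth.Agent.S2966
import Mathlib.RingTheory.Flat.FaithfullyFlat.Basic

/-!
# Over a perfect field a commutative affine group is a product of a multiplicative and a unipotent group
-/

universe u

set_option autoImplicit false
set_option backward.isDefEq.respectTransparency false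
set_option backward.isDefEq.respectTransparency.types false
set_option synthInstance.maxHeartbeats 200000
set_option maxHeartbeats 1600000

open TensorProduct WithConv

noncomputable section

namespace Groth.Agent.CommDecompLib

open GrpSchLib
open MultTypeLib (mA)

variable (k : Type u) [Field k] (A : Type u) [CommRing A] [HopfAlgebra k A] [Coalgebra.IsCocomm k A]

/-- The Hopf algebra structure on the conilpotent part. -/
@[reducible] def hopfB : HopfAlgebra k (UniPart.B k A) :=
  SubHopf.hopf (UniPart.B k A) (UniPart.isHopfSubalgebra (k := k) (A := A))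

attribute [local instance] hopfB

/-- The inclusion of the conilpotent part. -/
def inc : UniPart.B k A →ₐc[k] A :=
  BialgHom.ofAlgHom (UniPart.B k A).val rfl
    (AlgHom.ext fun b => SubHopf.map_comulRes (UniPart.B k A) UniPart.isHopfSubalgebra b)

variable (J : Ideal A) [J.IsHopfIdeal k] (hJ : J = UniPart.J k A)
variable (K : Type u) [Field K] [Algebra k K]

include hJ in
/-- The parts of the base change. -/
def parts : Parts K (K ⊗[k] A) (K ⊗[k] UniPart.B k A) (K ⊗[k] (A ⧸ J)) where
  j := Bialgebra.TensorProduct.map (BialgHom.id K K) (inc k A)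
  q := Bialgebra.TensorProduct.map (BialgHom.id K K) (Bialgebra.Quotient.mkBialgHom (R := k) J)
  inj := Module.Flat.lTensor_preserves_injective_linearMap (M := K) ((UniPart.B k A).val.toLinearMap)
    Subtype.val_injective
  mem := fun z => by
    induction z using TensorProduct.induction_on with
    | zero => rw [map_zero]; exact zero_mem _
    | tmul x b =>
      obtain ⟨n, hn⟩ := (UniPart.mem_Bs k A _).mp (show (b : A) ∈ UniPart.Bs k A from b.2)
      show x ⊗ₜ[k] (b : A) ∈ _
      rw [show x ⊗ₜ[k] (b : A) = x • ((1 : K) ⊗ₜ[k] (b : A)) by rw [smul_tmul', smul_eq_mul, mul_one]]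
      exact Submodule.smul_mem _ _ ((UniPart.mem_Bs K _ _).mpr ⟨n, UniPart.tmul_mem_Bn n hn⟩)
    | add x y hx hy => rw [map_add]; exact add_mem hx hy
  exists_j := fun y hy => by
    obtain ⟨n, hn⟩ := (UniPart.mem_Bs K _ y).mp hy
    have h1 : y ∈ Submodule.span K {z | ∃ b ∈ UniPart.Bs k A, z = (1 : K) ⊗ₜ[k] b} := UniPart.Bn_baseChange_le n hn
    clear hn hy
    induction h1 using Submodule.span_induction with
    | mem z hz =>
      obtain ⟨b, hb, rfl⟩ := hz
      exact ⟨(1 : K) ⊗ₜ[k] ⟨b, hb⟩, rfl⟩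
    | zero => exact ⟨0, map_zero _⟩
    | add a b _ _ ha hb =>
      obtain ⟨x, hx⟩ := ha
      obtain ⟨y, hy⟩ := hb
      exact ⟨x + y, by rw [map_add, hx, hy]⟩
    | smul r a _ ha =>
      obtain ⟨x, hx⟩ := ha
      exact ⟨r • x, by rw [map_smul, hx]⟩
  q_surj := fun t => by
    induction t using TensorProduct.induction_on with
    | zero => exact ⟨0, map_zero _⟩
    | tmul r y =>
      obtain ⟨a, rfl⟩ := Ideal.Quotient.mk_surjective y
      exact ⟨r ⊗ₜ a, rfl⟩
    | add x y hx hy =>
      obtain ⟨x', rfl⟩ := hx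
      obtain ⟨y', rfl⟩ := hy
      exact ⟨x' + y', map_add _ _ _⟩
  q_j := fun c => by
    induction c using TensorProduct.induction_on with
    | zero => simp
    | add x y hx hy => simp only [map_add, hx, hy]
    | tmul x b =>
      show x ⊗ₜ[k] Ideal.Quotient.mk J (b : A) = _
      have : Ideal.Quotient.mk J (b : A) = algebraMap k (A ⧸ J) (Coalgebra.counit (R := k) (b : A)) :=
        Ideal.Quotient.eq.mpr (hJ ▸ Ideal.subset_span ⟨sub_mem b.2 (Subalgebra.algebraMap_mem _ _), by
          rw [map_sub, Bialgebra.counit_algebraMap, sub_self]⟩)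
      rw [this, Algebra.algebraMap_eq_smul_one, tmul_smul, TensorProduct.counit_tmul, Algebra.algebraMap_eq_smul_one]
      show _ = (Coalgebra.counit (R := k) (b : A) • x) • ((1 : K) ⊗ₜ[k] (1 : A ⧸ J))
      rw [smul_tmul', smul_tmul', smul_eq_mul, mul_one]
  q_ker := fun x hx => by
    have h' : x ∈ RingHom.ker (Algebra.TensorProduct.map (AlgHom.id k K) (Ideal.Quotient.mkₐ k J)) := hx
    rw [Algebra.TensorProduct.lTensor_ker _ Ideal.Quotient.mk_surjective,
      show RingHom.ker (Ideal.Quotient.mkₐ k J) = J from Ideal.mk_ker] at h'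
    refine (Ideal.map_le_iff_le_comap.mpr (hJ ▸ Ideal.span_le.mpr fun b hb => ?_) : _ ≤ _) h'
    refine SetLike.mem_coe.mpr (Ideal.mem_comap.mpr ?_)
    refine Ideal.mem_map_of_mem _ (x := (1 : K) ⊗ₜ[k] (⟨b, hb.1⟩ : UniPart.B k A)) ?_
    show Coalgebra.counit (R := K) ((1 : K) ⊗ₜ[k] (⟨b, hb.1⟩ : UniPart.B k A)) = 0
    rw [TensorProduct.counit_tmul]
    have h2 : Coalgebra.counit (R := k) (⟨b, hb.1⟩ : UniPart.B k A) = 0 := hb.2
    simp [h2]

variable [PerfectField k]

include hJ in
/-- A commutative affine group over a perfect field has exactly one unipotent complement to its multiplicative part. -/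
theorem existsUnique_complement :
    ∃! I : Ideal A, ∃ (_ : I.IsHopfIdeal k), HopfRep.IsUnipotent k (A ⧸ I) ∧
      Function.Bijective ((Algebra.TensorProduct.map (Ideal.Quotient.mkₐ k J) (Ideal.Quotient.mkₐ k I)).comp
        (Bialgebra.comulAlgHom k A)) := by
  classical
  let K := AlgebraicClosure k
  haveI : IsGalois k K := inferInstance
  let P := parts k A J hJ K
  let rK := P.rK
  have hinj : ∀ {V : Type u} [CommRing V] [Algebra k V], Function.Injective (fun v : V => (1 : K) ⊗ₜ[k] v) :=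
    fun {V} _ _ => Algebra.TensorProduct.includeRight_injective (R := k) (A := K) (B := V) (algebraMap k K).injective
  have hfixed : ∀ a : A, ∀ σ : K ≃ₐ[k] K,
      (σ : K →ₐ[k] K).toLinearMap.rTensor (UniPart.B k A) (rK ((1 : K) ⊗ₜ[k] a)) = rK ((1 : K) ⊗ₜ[k] a) := by
    intro a σ
    let r' : K ⊗[k] A →ₐ[K] K ⊗[k] UniPart.B k A :=
      { toRingHom := ((mA (UniPart.B k A) (σ : K →ₐ[k] K)).toRingHom.comp
          (rK : K ⊗[k] A →ₐ[K] K ⊗[k] UniPart.B k A).toRingHom).comp (mA A (σ.symm : K →ₐ[k] K)).toRingHom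
        commutes' := fun x => by
          show mA _ (σ : K →ₐ[k] K) ((rK : K ⊗[k] A →ₐ[K] K ⊗[k] UniPart.B k A)
            (mA A (σ.symm : K →ₐ[k] K) (x ⊗ₜ[k] 1))) = x ⊗ₜ[k] 1
          rw [Algebra.TensorProduct.map_tmul, map_one]
          show mA _ (σ : K →ₐ[k] K) ((rK : K ⊗[k] A →ₐ[K] K ⊗[k] UniPart.B k A) (algebraMap K _ (σ.symm x))) = _
          rw [AlgHom.commutes]
          show mA _ (σ : K →ₐ[k] K) (σ.symm x ⊗ₜ[k] (1 : UniPart.B k A)) = _
          simp }
    have hr'j : ∀ c, r' (P.j c) = c := by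
      intro c
      show mA _ (σ : K →ₐ[k] K) (rK (mA A (σ.symm : K →ₐ[k] K) (P.j c))) = c
      have e1 : mA A (σ.symm : K →ₐ[k] K) (P.j c) = P.j (mA (UniPart.B k A) (σ.symm : K →ₐ[k] K) c) := by
        induction c using TensorProduct.induction_on with
        | zero => simp
        | tmul x c => rfl
        | add x y hx hy => simp only [map_add, hx, hy]
      rw [e1, P.rK_j, MultTypeLib.mA_comp,
        show ((σ : K →ₐ[k] K).comp (σ.symm : K →ₐ[k] K)) = AlgHom.id k K from AlgHom.ext fun x => σ.apply_symm_apply x]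
      simp
    have hr' : ∀ x, r' x = rK x := by
      intro x
      rw [P.apply_eq r' (fun G hG => by
        show mA _ (σ : K →ₐ[k] K) (rK (mA A (σ.symm : K →ₐ[k] K) G)) = 1
        rw [P.rK_groupLike (MultTypeLib.isGroupLike_mA _ hG), map_one]) x, hr'j]
    have h := hr' ((1 : K) ⊗ₜ[k] a)
    change mA _ (σ : K →ₐ[k] K) (rK (mA A (σ.symm : K →ₐ[k] K) ((1 : K) ⊗ₜ[k] a))) = rK ((1 : K) ⊗ₜ[k] a) at h
    rw [Algebra.TensorProduct.map_tmul, map_one, AlgHom.id_apply] at h
    conv_rhs => rw [← h]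
    induction rK ((1 : K) ⊗ₜ[k] a) using TensorProduct.induction_on with
    | zero => simp
    | tmul x c => simp
    | add x y hx hy => simp only [map_add, hx, hy]
  choose r0 hr0 using fun a => ExtMultLib.exists_one_tmul_of_fixed (K := K) (rK ((1 : K) ⊗ₜ[k] a)) (hfixed a)
  let ra : A →ₐ[k] UniPart.B k A := AlgHom.ofLinearMap
    { toFun := r0
      map_add' := fun x y => hinj (by
        show (1 : K) ⊗ₜ[k] r0 (x + y) = (1 : K) ⊗ₜ[k] (r0 x + r0 y)
        rw [TensorProduct.tmul_add, hr0, hr0, hr0, TensorProduct.tmul_add, map_add])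
      map_smul' := fun c x => hinj (by
        show (1 : K) ⊗ₜ[k] r0 (c • x) = (1 : K) ⊗ₜ[k] (c • r0 x)
        rw [TensorProduct.tmul_smul, hr0, hr0, TensorProduct.tmul_smul, ← algebraMap_smul K c ((1 : K) ⊗ₜ[k] x), map_smul,
          algebraMap_smul]) }
    (hinj (by
      show (1 : K) ⊗ₜ[k] r0 1 = (1 : K) ⊗ₜ[k] (1 : UniPart.B k A)
      rw [hr0, ← Algebra.TensorProduct.one_def, map_one]
      rfl))
    (fun x y => hinj (by
      show (1 : K) ⊗ₜ[k] r0 (x * y) = (1 : K) ⊗ₜ[k] (r0 x * r0 y)
      rw [show (1 : K) ⊗ₜ[k] (r0 x * r0 y) = ((1 : K) ⊗ₜ[k] r0 x) * ((1 : K) ⊗ₜ[k] r0 y) by simp, hr0, hr0, hr0, ← map_mul]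
      simp))
  let g : MultTypeLib.SemiBialgHom k K A (K ⊗[k] UniPart.B k A) :=
    (MultTypeLib.SemiBialgHom.ofBialgHom rK).comp (MultTypeLib.SemiBialgHom.baseChange k K A)
  have hg : ∀ a, g.toAlgHom a = (MultTypeLib.SemiBialgHom.baseChange k K (UniPart.B k A)).toAlgHom (ra a) :=
    fun a => (hr0 a).symm
  let r : A →ₐc[k] UniPart.B k A := BialgHom.ofAlgHom ra (AlgHom.ext fun a => by
      have h1 := g.counit_comp a
      rw [hg, (MultTypeLib.SemiBialgHom.baseChange k K (UniPart.B k A)).counit_comp] at h1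
      exact (algebraMap k K).injective h1) (AlgHom.ext fun a => by
      refine S16065.sq_injective (k' := K) ?_
      have h1 := g.comul_comp a
      rw [hg, (MultTypeLib.SemiBialgHom.baseChange k K (UniPart.B k A)).comul_comp] at h1
      refine Eq.trans ?_ h1.symm
      show MultTypeLib.sq K _ (Algebra.TensorProduct.map ra ra (Coalgebra.comul (R := k) a)) = _
      generalize Coalgebra.comul (R := k) a = z
      induction z using TensorProduct.induction_on with
      | zero => simp
      | add x y hx hy => simp only [map_add, hx, hy]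
      | tmul x y => simp [hg])
  have hr : ∀ a, (1 : K) ⊗ₜ[k] r a = rK ((1 : K) ⊗ₜ[k] a) := hr0
  have hrinc : ∀ b, r (inc k A b) = b := fun b => hinj (by
    show (1 : K) ⊗ₜ[k] r (inc k A b) = (1 : K) ⊗ₜ[k] b
    rw [hr]
    exact P.rK_j ((1 : K) ⊗ₜ[k] b))
  let I : Ideal A := RingHom.ker (r : A →ₐ[k] UniPart.B k A)
  haveI hI : I.IsHopfIdeal k := GrpSchLib.isHopfIdeal_ker r fun a ha => by
    rw [← HopfGalois.antipode_bialgHom r a, ha, map_zero]
  let p : UniPart.B k A →ₐc[k] A ⧸ I := (Bialgebra.Quotient.mkBialgHom (R := k) I).comp (inc k A)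
  have hpr : ∀ a, p (r a) = Ideal.Quotient.mk I a := fun a =>
    Ideal.Quotient.eq.mpr (show r (inc k A (r a) - a) = 0 by rw [map_sub, hrinc, sub_self])
  have hp : Function.Surjective p := fun t => by
    obtain ⟨a, rfl⟩ := Ideal.Quotient.mk_surjective t
    exact ⟨r a, hpr a⟩
  have hpi : Function.Injective p := (injective_iff_map_eq_zero p).mpr fun b hb => by
    have h1 : r (inc k A b) = 0 := Ideal.Quotient.eq_zero_iff_mem.mp hb
    rwa [hrinc] at h1
  have hU : HopfRep.IsUnipotent k (A ⧸ I) :=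
    TakeuchiLib.isUnipotent_of_surjective p hp (UniPart.isUnipotent (k := k) (A := A))
  let F : A →ₐ[k] (A ⧸ J) ⊗[k] UniPart.B k A :=
    (Algebra.TensorProduct.map (Ideal.Quotient.mkₐ k J) (r : A →ₐ[k] UniPart.B k A)).comp (Bialgebra.comulAlgHom k A)
  have hFG : ∀ z : K ⊗[k] A,
      TensorProduct.AlgebraTensorModule.distribBaseChange k K (A ⧸ J) (UniPart.B k A) (F.toLinearMap.baseChange K z) =
        P.GK z := by
    intro z
    induction z using TensorProduct.induction_on with
    | zero => simp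
    | add x y hx hy => simp only [map_add, hx, hy]
    | tmul x a =>
      rw [show x ⊗ₜ[k] a = x • ((1 : K) ⊗ₜ[k] a) by rw [smul_tmul', smul_eq_mul, mul_one], map_smul, map_smul, map_smul]
      congr 1
      rw [LinearMap.baseChange_tmul]
      show TensorProduct.AlgebraTensorModule.distribBaseChange k K (A ⧸ J) (UniPart.B k A)
          ((1 : K) ⊗ₜ[k] (Algebra.TensorProduct.map (Ideal.Quotient.mkₐ k J) (r : A →ₐ[k] UniPart.B k A)
            (Coalgebra.comul (R := k) a))) =
        Algebra.TensorProduct.map (P.q : K ⊗[k] A →ₐ[K] K ⊗[k] (A ⧸ J)) (P.rK : K ⊗[k] A →ₐ[K] K ⊗[k] UniPart.B k A)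
          (Coalgebra.comul (R := K) ((1 : K) ⊗ₜ[k] a))
      rw [UniPart.comul_one_tmul]
      induction Coalgebra.comul (R := k) a using TensorProduct.induction_on with
      | zero => simp
      | add u w hu hw => simp only [map_add, TensorProduct.tmul_add, hu, hw]
      | tmul u w =>
        simp only [Algebra.TensorProduct.map_tmul, AlgebraTensorModule.distribBaseChange_tmul]
        show _ = P.q ((1 : K) ⊗ₜ[k] u) ⊗ₜ[K] P.rK ((1 : K) ⊗ₜ[k] w)
        rw [← hr]
        rfl
  have hF : Function.Bijective F := by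
    refine (Module.FaithfullyFlat.lTensor_bijective_iff_bijective k K F.toLinearMap).mp ?_
    have h1 : Function.Bijective (fun z : K ⊗[k] A =>
        TensorProduct.AlgebraTensorModule.distribBaseChange k K (A ⧸ J) (UniPart.B k A)
          (F.toLinearMap.baseChange K z)) := by
      rw [funext hFG]
      exact P.GK_bijective
    exact (Function.Bijective.of_comp_iff'
      (TensorProduct.AlgebraTensorModule.distribBaseChange k K (A ⧸ J) (UniPart.B k A)).bijective _).mp h1
  let FI : A →ₐ[k] (A ⧸ J) ⊗[k] (A ⧸ I) :=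
    (Algebra.TensorProduct.map (Ideal.Quotient.mkₐ k J) (Ideal.Quotient.mkₐ k I)).comp (Bialgebra.comulAlgHom k A)
  let pe := LinearEquiv.ofBijective ((p : UniPart.B k A →ₐ[k] A ⧸ I).toLinearMap) ⟨hpi, hp⟩
  have hFI : Function.Bijective FI := by
    have e : ∀ a, FI a = TensorProduct.congr (LinearEquiv.refl k (A ⧸ J)) pe (F a) := by
      intro a
      show Algebra.TensorProduct.map (Ideal.Quotient.mkₐ k J) (Ideal.Quotient.mkₐ k I) (Coalgebra.comul (R := k) a) =
        TensorProduct.congr (LinearEquiv.refl k (A ⧸ J)) pe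
          (Algebra.TensorProduct.map (Ideal.Quotient.mkₐ k J) (r : A →ₐ[k] UniPart.B k A) (Coalgebra.comul (R := k) a))
      induction Coalgebra.comul (R := k) a using TensorProduct.induction_on with
      | zero => simp
      | add u w hu hw => simp only [map_add, hu, hw]
      | tmul u w =>
        show Ideal.Quotient.mk J u ⊗ₜ[k] Ideal.Quotient.mk I w = Ideal.Quotient.mk J u ⊗ₜ[k] p (r w)
        rw [hpr]
    rw [show (FI : A → _) = TensorProduct.congr (LinearEquiv.refl k (A ⧸ J)) pe ∘ F from funext e]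
    exact (TensorProduct.congr (LinearEquiv.refl k (A ⧸ J)) pe).bijective.comp hF
  refine ⟨I, ⟨hI, hU, hFI⟩, ?_⟩
  rintro I' ⟨hI', hU', hbij⟩
  haveI := hI'
  let q' := Bialgebra.Quotient.mkBialgHom (R := k) I'
  let q'K : K ⊗[k] A →ₐc[K] K ⊗[k] (A ⧸ I') := Bialgebra.TensorProduct.map (BialgHom.id K K) q'
  have hle : I ≤ I' := by
    intro a ha
    refine Ideal.Quotient.eq_zero_iff_mem.mp (hinj (show (1 : K) ⊗ₜ[k] q' a = (1 : K) ⊗ₜ[k] (0 : A ⧸ I') from ?_))
    have h1 := P.apply_eq (q'K : K ⊗[k] A →ₐ[K] K ⊗[k] (A ⧸ I'))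
      (fun G hG => S2966.groupLike_eq_one hU' _ (hG.map q'K)) ((1 : K) ⊗ₜ[k] a)
    refine h1.trans ?_
    show q'K (P.j (rK ((1 : K) ⊗ₜ[k] a))) = _
    rw [← hr, show r a = 0 from ha, TensorProduct.tmul_zero, map_zero, map_zero]
    simp
  let π : (A ⧸ I) →ₗ[k] A ⧸ I' := (Ideal.Quotient.factorₐ k hle).toLinearMap
  have hπ : Function.Surjective π := Ideal.Quotient.factor_surjective hle
  haveI : Nontrivial (A ⧸ J) := (Bialgebra.counitAlgHom k (A ⧸ J)).toRingHom.domain_nontrivial
  have hπb : Function.Bijective π := by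
    refine (Module.FaithfullyFlat.lTensor_bijective_iff_bijective k (A ⧸ J) π).mp ?_
    refine (Function.Bijective.of_comp_iff (π.lTensor (A ⧸ J)) hFI).mp ?_
    convert hbij using 1
    funext a
    show π.lTensor (A ⧸ J) (Algebra.TensorProduct.map (Ideal.Quotient.mkₐ k J) (Ideal.Quotient.mkₐ k I)
      (Coalgebra.comul (R := k) a)) = Algebra.TensorProduct.map (Ideal.Quotient.mkₐ k J) (Ideal.Quotient.mkₐ k I')
      (Coalgebra.comul (R := k) a)
    induction Coalgebra.comul (R := k) a using TensorProduct.induction_on with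
    | zero => simp
    | add u w hu hw => simp only [map_add, hu, hw]
    | tmul u w => rfl
  refine le_antisymm (fun a ha => ?_) hle
  refine Ideal.Quotient.eq_zero_iff_mem.mp (hπb.1 ((?_ : π (Ideal.Quotient.mk I a) = 0).trans (map_zero π).symm))
  exact Ideal.Quotient.eq_zero_iff_mem.mpr ha

end Groth.Agent.CommDecompLib
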