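import Groth.Agent.GrpSchLib.UniPartDiag
import Mathlib.RingTheory.Bialgebra.MonoidAlgebra
import Mathlib.RingTheory.Bialgebra.GroupLike

/-!
# A commutative affine group over an algebraically closed field is diagonalisable times unipotent
-/

universe u

set_option autoImplicit false
set_option backward.isDefEq.respectTransparency false
set_option backward.isDefEq.respectTransparency.types false

open TensorProduct WithConv

noncomputable section

namespace Groth.Agent.CommDecompLib

open GrpSchLib
open ComodLib (actF)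

/-- A translate of the conilpotent part by a group-like element is in a simultaneous generalised eigenspace. -/
theorem mul_mem_maxGenEigenspace {L R : Type u} [Field L] [CommRing R] [Bialgebra L R] {g : R}
    (hg : IsGroupLikeElem L g) {y : R} (hy : y ∈ UniPart.Bs L R) :
    g * y ∈ ⨅ φ : R →ₗ[L] L, (Module.End.maxGenEigenspace (actF φ : Module.End L R) (φ g)) := by
  refine (Module.End.mem_iInf_maxGenEigenspace_iff _ _ _).mpr fun φ => ?_
  obtain ⟨n, hn⟩ := (UniPart.mem_Bs L R y).mp hy
  refine ⟨n, ?_⟩
  clear hy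
  induction n generalizing y with
  | zero => rw [show y = 0 from (Submodule.mem_bot L).mp hn, mul_zero, map_zero]
  | succ n ih =>
    rw [pow_succ, Module.End.mul_apply]
    have h1 := (UniPart.mem_Bn_succ L R n y).mp hn (φ ∘ₗ LinearMap.mulLeft L g)
    rw [LinearMap.comp_apply, LinearMap.mulLeft_apply, mul_one] at h1
    refine Eq.trans (congrArg _ ?_) (ih h1)
    rw [LinearMap.sub_apply, LinearMap.smul_apply, Module.End.one_apply, UniPart.isGroupLike_actF L R hg, mul_sub,
      Algebra.mul_smul_comm]

/-- The conilpotent part `C` of `R` and the quotient `H` by the subgroup it cuts out. -/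
structure Parts (K : Type u) [Field K] (R C H : Type u) [CommRing R] [HopfAlgebra K R] [Coalgebra.IsCocomm K R]
    [CommRing C] [HopfAlgebra K C] [CommRing H] [Bialgebra K H] where
  /-- the inclusion -/
  j : C →ₐc[K] R
  /-- the quotient map -/
  q : R →ₐc[K] H
  inj : Function.Injective j
  mem : ∀ c, j c ∈ UniPart.Bs K R
  exists_j : ∀ y ∈ UniPart.Bs K R, ∃ c, j c = y
  q_surj : Function.Surjective q
  q_j : ∀ c, q (j c) = algebraMap K H (Coalgebra.counit (R := K) c)
  q_ker : ∀ x, q x = 0 → x ∈ Ideal.map (j : C →+* R) (RingHom.ker (Bialgebra.counitAlgHom K C))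

namespace Parts

variable {K : Type u} [Field K] {R C H : Type u} [CommRing R] [HopfAlgebra K R] [Coalgebra.IsCocomm K R]
    [CommRing C] [HopfAlgebra K C] [CommRing H] [Bialgebra K H] (P : Parts K R C H)

variable (K R) in
/-- The characters. -/
def grp : MonoidAlgebra K (GroupLike K R) →ₐc[K] R := MonoidAlgebra.liftGroupLikeBialgHom

theorem grp_single (m : GroupLike K R) (r : K) : grp K R (MonoidAlgebra.single m r) = r • m.val := by
  show MonoidAlgebra.lift K R (GroupLike K R) _ (MonoidAlgebra.single m r) = _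
  simp [MonoidAlgebra.lift_single]

/-- The multiplication map. -/
def Θ : C ⊗[K] MonoidAlgebra K (GroupLike K R) →ₐc[K] R :=
  (Bialgebra.mulBialgHom K R).comp (Bialgebra.TensorProduct.map P.j (grp K R))

theorem Θ_tmul (c : C) (m : GroupLike K R) (r : K) :
    P.Θ (c ⊗ₜ[K] MonoidAlgebra.single m r) = r • (P.j c * m.val) := by
  show LinearMap.mul' K R (P.j c ⊗ₜ[K] grp K R (MonoidAlgebra.single m r)) = _
  rw [LinearMap.mul'_apply, grp_single, mul_smul_comm]

theorem Θ_injective : Function.Injective P.Θ := by
  classical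
  refine (injective_iff_map_eq_zero P.Θ).mpr fun z hz => ?_
  let f : (R →ₗ[K] K) → Module.End K R := fun φ => actF φ
  have hcomm : ∀ φ ψ, Commute (f φ) (f ψ) := fun φ ψ => LinearMap.ext fun x => by
    have e1 := ComodLib.actF_convMul (toConv φ) (toConv ψ) x
    have e2 := ComodLib.actF_convMul (toConv ψ) (toConv φ) x
    rw [_root_.mul_comm] at e1
    exact e1.symm.trans e2
  have hindep := Module.End.independent_iInf_maxGenEigenspace_of_forall_mapsTo f
    (fun φ ψ μ => Module.End.mapsTo_maxGenEigenspace_of_comm (hcomm ψ φ) μ)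
  let χ : GroupLike K R → (R →ₗ[K] K) → K := fun m φ => φ m.val
  have hχ : Function.Injective χ := fun m n h => GroupLike.ext (by
    rw [← sub_eq_zero]
    refine (Module.forall_dual_apply_eq_zero_iff K _).mp fun φ => ?_
    rw [map_sub, sub_eq_zero]
    exact congrFun h φ)
  have hV := hindep.comp hχ
  let b : Module.Basis (GroupLike K R) K (MonoidAlgebra K (GroupLike K R)) :=
    Finsupp.basisSingleOne.map (MonoidAlgebra.coeffLinearEquiv K).symm
  let w := TensorProduct.equivFinsuppOfBasisRight b z
  have hzw : z = ∑ m ∈ w.support, w m ⊗ₜ[K] MonoidAlgebra.single m (1 : K) := by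
    have := (TensorProduct.equivFinsuppOfBasisRight b).symm_apply_apply z
    rw [TensorProduct.equivFinsuppOfBasisRight_symm_apply] at this
    refine this.symm.trans (Finset.sum_congr rfl fun m _ => ?_)
    simp [b, w]
  have h0 := (congrArg P.Θ hzw.symm).trans hz
  rw [map_sum] at h0
  simp only [Θ_tmul, one_smul] at h0
  refine hzw.trans (Finset.sum_eq_zero fun n hn => ?_)
  let x : GroupLike K R → R := fun m => P.j (w m) * m.val
  have hmem : ∀ m, x m ∈ (fun m => ⨅ φ, Module.End.maxGenEigenspace (f φ) (χ m φ)) m := fun m => by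
    show P.j (w m) * m.val ∈ _
    rw [mul_comm]
    exact mul_mem_maxGenEigenspace m.isGroupLikeElem_val (P.mem (w m))
  have hx0 : x n = 0 := by
    have h2 : x n ∈ (⨅ φ, Module.End.maxGenEigenspace (f φ) (χ n φ)) ⊓
        ⨆ (m) (_ : m ≠ n), ⨅ φ, Module.End.maxGenEigenspace (f φ) (χ m φ) := by
      refine ⟨hmem n, ?_⟩
      have e : x n = -∑ m ∈ w.support.erase n, x m :=
        eq_neg_of_add_eq_zero_left ((Finset.add_sum_erase _ x hn).trans h0)
      rw [e]
      exact neg_mem (Submodule.sum_mem _ fun m hm => Submodule.mem_iSup_of_mem m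
        (Submodule.mem_iSup_of_mem (Finset.ne_of_mem_erase hm) (hmem m)))
    exact (Submodule.mem_bot K).mp ((hV n).eq_bot ▸ h2)
  have h3 : P.j (w n) = 0 := n.isGroupLikeElem_val.isUnit.mul_left_eq_zero.mp hx0
  rw [P.inj (h3.trans (map_zero _).symm), TensorProduct.zero_tmul]

variable [IsAlgClosed K]

theorem Θ_surjective : Function.Surjective P.Θ := by
  intro a
  have ha : a ∈ UniPart.glSpan K R := by
    rw [UniPart.glSpan_eq_top (k := K) (A := R)]
    exact Submodule.mem_top
  induction ha using Submodule.span_induction with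
  | mem x hx =>
    obtain ⟨g, y, hg, hy, rfl⟩ := hx
    obtain ⟨c, rfl⟩ := P.exists_j y hy
    exact ⟨c ⊗ₜ[K] MonoidAlgebra.single ⟨g, hg⟩ (1 : K), by rw [Θ_tmul, one_smul, mul_comm]⟩
  | zero => exact ⟨0, map_zero _⟩
  | add a b _ _ ha hb =>
    obtain ⟨x, hx⟩ := ha
    obtain ⟨y, hy⟩ := hb
    exact ⟨x + y, by rw [map_add, hx, hy]⟩
  | smul r a _ ha =>
    obtain ⟨x, hx⟩ := ha
    exact ⟨r • x, by rw [map_smul, hx]⟩

/-- The decomposition. -/
def split : C ⊗[K] MonoidAlgebra K (GroupLike K R) ≃ₐc[K] R :=
  BialgEquiv.ofBijective P.Θ ⟨P.Θ_injective, P.Θ_surjective⟩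

theorem split_symm (c : C) (m : GroupLike K R) :
    P.split.symm (P.j c * m.val) = c ⊗ₜ[K] MonoidAlgebra.single m (1 : K) :=
  P.split.injective ((P.split.toEquiv.apply_symm_apply _).trans
    ((one_smul K _).symm.trans (P.Θ_tmul c m 1).symm))

/-- The projection to the conilpotent part. -/
def rK : R →ₐc[K] C :=
  ((Bialgebra.TensorProduct.rid K K C : C ⊗[K] K →ₐc[K] C).comp
    (Bialgebra.TensorProduct.map (BialgHom.id K _)
      (Bialgebra.counitBialgHom K (MonoidAlgebra K (GroupLike K R))))).comp
    (P.split.symm : R →ₐc[K] C ⊗[K] MonoidAlgebra K (GroupLike K R))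

theorem rK_mul (c : C) (m : GroupLike K R) : P.rK (P.j c * m.val) = c := by
  show Bialgebra.TensorProduct.rid K K C (Bialgebra.TensorProduct.map (BialgHom.id K _)
      (Bialgebra.counitBialgHom K (MonoidAlgebra K (GroupLike K R)))
      (P.split.symm (P.j c * m.val))) = c
  rw [split_symm]
  show Bialgebra.TensorProduct.rid K K C (c ⊗ₜ[K] Coalgebra.counit (R := K) (MonoidAlgebra.single m (1 : K))) = c
  simp

theorem rK_j (c : C) : P.rK (P.j c) = c := by
  have := P.rK_mul c 1
  rwa [GroupLike.val_one, mul_one] at this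

theorem rK_groupLike {g : R} (hg : IsGroupLikeElem K g) : P.rK g = 1 := by
  have := P.rK_mul 1 ⟨g, hg⟩
  rwa [map_one, one_mul] at this

include P in
/-- Algebra maps killing the group-like elements are determined on the conilpotent part. -/
theorem apply_eq {T : Type u} [CommRing T] [Algebra K T] (f : R →ₐ[K] T)
    (hf : ∀ g, IsGroupLikeElem K g → f g = 1) (x : R) : f x = f (P.j (P.rK x)) := by
  obtain ⟨z, rfl⟩ := P.Θ_surjective x
  induction z using TensorProduct.induction_on with
  | zero => simp
  | add x y hx hy => simp only [map_add, hx, hy]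
  | tmul c t =>
    induction t using MonoidAlgebra.induction_linear with
    | zero => simp
    | add x y hx hy => simp only [TensorProduct.tmul_add, map_add, hx, hy]
    | single m s =>
      rw [Θ_tmul, map_smul, map_smul, map_smul, map_smul, rK_mul, map_mul, hf _ m.isGroupLikeElem_val, mul_one]

/-- The projection to the characters. -/
def sK : R →ₐ[K] MonoidAlgebra K (GroupLike K R) :=
  ((Algebra.TensorProduct.lid K (MonoidAlgebra K (GroupLike K R))).toAlgHom.comp
    (Algebra.TensorProduct.map (Bialgebra.counitAlgHom K C) (AlgHom.id K _))).comp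
    ((P.split.symm : R →ₐc[K] C ⊗[K] MonoidAlgebra K (GroupLike K R)) : R →ₐ[K] C ⊗[K] MonoidAlgebra K (GroupLike K R))

theorem sK_mul (c : C) (m : GroupLike K R) :
    P.sK (P.j c * m.val) = MonoidAlgebra.single m (Coalgebra.counit (R := K) c) := by
  show Algebra.TensorProduct.lid K (MonoidAlgebra K (GroupLike K R))
    (Algebra.TensorProduct.map (Bialgebra.counitAlgHom K C) (AlgHom.id K _) (P.split.symm (P.j c * m.val))) = _
  rw [split_symm]
  simp

theorem sK_grp (y : MonoidAlgebra K (GroupLike K R)) : P.sK (grp K R y) = y := by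
  induction y using MonoidAlgebra.induction_linear with
  | zero => simp
  | add x y hx hy => simp only [map_add, hx, hy]
  | single m s =>
    rw [grp_single, map_smul, show m.val = P.j 1 * m.val by rw [map_one, one_mul], sK_mul]
    simp

theorem sK_eq_zero {x : R} (h : P.q x = 0) : P.sK x = 0 := by
  refine (Ideal.map_le_iff_le_comap.mpr fun c hc => ?_ : _ ≤ RingHom.ker P.sK) (P.q_ker x h)
  show P.sK (P.j c) = 0
  have h1 : P.j c = P.j c * (1 : GroupLike K R).val := by rw [GroupLike.val_one, mul_one]
  rw [h1, sK_mul, show Coalgebra.counit (R := K) c = 0 from hc, MonoidAlgebra.single_zero]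

include P in
theorem q_grp_bijective : Function.Bijective (fun y => P.q (grp K R y)) := by
  refine ⟨fun y y' h => ?_, fun t => ?_⟩
  · have h1 : P.q (grp K R (y - y')) = 0 := by rw [map_sub, map_sub, sub_eq_zero]; exact h
    have h2 := P.sK_eq_zero h1
    rwa [sK_grp, sub_eq_zero] at h2
  · obtain ⟨x, rfl⟩ := P.q_surj t
    obtain ⟨z, rfl⟩ := P.Θ_surjective x
    induction z using TensorProduct.induction_on with
    | zero => exact ⟨0, by simp⟩
    | add x y hx hy =>
      obtain ⟨a, ha⟩ := hx
      obtain ⟨b, hb⟩ := hy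
      exact ⟨a + b, by simp only [map_add] at ha hb ⊢; rw [ha, hb]⟩
    | tmul c t =>
      refine ⟨Coalgebra.counit (R := K) c • t, ?_⟩
      show P.q (grp K R _) = P.q (P.Θ (c ⊗ₜ[K] t))
      rw [map_smul, map_smul, show P.Θ (c ⊗ₜ[K] t) = P.j c * grp K R t from rfl, map_mul, P.q_j, ← Algebra.smul_def]

/-- The comorphism of the multiplication map. -/
def GK : R →ₐ[K] H ⊗[K] C :=
  (Algebra.TensorProduct.map (P.q : R →ₐ[K] H) (P.rK : R →ₐ[K] C)).comp (Bialgebra.comulAlgHom K R)

theorem GK_mul (c : C) (m : GroupLike K R) : P.GK (P.j c * m.val) = P.q m.val ⊗ₜ[K] c := by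
  have h1 : P.GK (P.j c) = 1 ⊗ₜ[K] c := by
    show Algebra.TensorProduct.map (P.q : R →ₐ[K] H) (P.rK : R →ₐ[K] C) (Coalgebra.comul (R := K) (P.j c)) = _
    rw [← CoalgHomClass.map_comp_comul_apply P.j c]
    have h : ∀ z, Algebra.TensorProduct.map (P.q : R →ₐ[K] H) (P.rK : R →ₐ[K] C)
        (TensorProduct.map (P.j : C →ₗ[K] R) (P.j : C →ₗ[K] R) z) =
        (1 : H) ⊗ₜ[K] TensorProduct.lid K _ ((Coalgebra.counit (R := K)).rTensor C z) := by
      intro z
      induction z using TensorProduct.induction_on with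
      | zero => simp
      | add x y hx hy => simp only [map_add, TensorProduct.tmul_add, hx, hy]
      | tmul x y =>
        show P.q (P.j x) ⊗ₜ[K] P.rK (P.j y) = _
        rw [P.q_j, rK_j, LinearMap.rTensor_tmul, TensorProduct.lid_tmul, Algebra.algebraMap_eq_smul_one,
          TensorProduct.smul_tmul]
    refine (h _).trans ?_
    rw [Coalgebra.rTensor_counit_comul, TensorProduct.lid_tmul, one_smul]
  have h2 : P.GK m.val = P.q m.val ⊗ₜ[K] 1 := by
    show Algebra.TensorProduct.map (P.q : R →ₐ[K] H) (P.rK : R →ₐ[K] C) (Coalgebra.comul (R := K) m.val) = _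
    rw [m.isGroupLikeElem_val.comul_eq_tmul_self, Algebra.TensorProduct.map_tmul]
    show P.q m.val ⊗ₜ[K] P.rK m.val = _
    rw [P.rK_groupLike m.isGroupLikeElem_val]
  rw [map_mul, h1, h2, Algebra.TensorProduct.tmul_mul_tmul, one_mul, mul_one]

theorem GK_bijective : Function.Bijective P.GK := by
  let e := LinearEquiv.ofBijective
    ((P.q : R →ₐ[K] H).toLinearMap ∘ₗ (grp K R : MonoidAlgebra K (GroupLike K R) →ₐ[K] R).toLinearMap)
    P.q_grp_bijective
  let E := (TensorProduct.comm K C (MonoidAlgebra K (GroupLike K R))).trans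
    (TensorProduct.congr e (LinearEquiv.refl K C))
  have h : ∀ z, P.GK (P.Θ z) = E z := by
    intro z
    induction z using TensorProduct.induction_on with
    | zero => simp
    | add x y hx hy => simp only [map_add, hx, hy]
    | tmul c t =>
      induction t using MonoidAlgebra.induction_linear with
      | zero => simp
      | add x y hx hy => simp only [TensorProduct.tmul_add, map_add, hx, hy]
      | single m s =>
        rw [Θ_tmul, map_smul, GK_mul]
        show _ = P.q (grp K R (MonoidAlgebra.single m s)) ⊗ₜ[K] c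
        rw [grp_single, map_smul, TensorProduct.smul_tmul']
  refine (Function.Bijective.of_comp_iff P.GK ⟨P.Θ_injective, P.Θ_surjective⟩).mp ?_
  rw [show (P.GK : R → _) ∘ P.Θ = E from funext h]
  exact E.bijective

end Parts

end Groth.Agent.CommDecompLib
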